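import Groth.Agent.Lib.AdjVar.Stable

/-!
The five dimensional subalgebra generated by the root vectors of `ρ`, `-ρ` and `ρ - α`.
-/

set_option autoImplicit false
set_option maxHeartbeats 1000000

universe u v w

open LieAlgebra LieModule LieAlgebra.IsKilling

namespace Groth.Agent.Lib.AdjVar.Five

open Groth.Agent.Lib.AdjVar.Root Groth.Agent.Lib.AdjVar.Stable

section Abstract

variable {K : Type v} {L : Type w} [Field K] [CharZero K] [LieRing L] [LieAlgebra K L]

/-- A subalgebra spanned by an `sl₂`-triple and its standard two-dimensional module. -/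
theorem radical_eq_of_span (A : LieSubalgebra K L) [FiniteDimensional K A] (e f h p c : L)
    (he : e ∈ A) (hf : f ∈ A) (hh : h ∈ A) (hp : p ∈ A) (hc : c ∈ A)
    (hspan : ∀ x ∈ A, x ∈ Submodule.span K {e, f, h, p, c})
    (ef : ⁅e, f⁆ = h) (he2 : ⁅h, e⁆ = (2 : K) • e) (hf2 : ⁅h, f⁆ = (-2 : K) • f)
    (hp1 : ⁅h, p⁆ = p) (hc1 : ⁅h, c⁆ = -c)
    (ep : ⁅e, p⁆ = 0) (ec : ⁅e, c⁆ = -p) (fp : ⁅f, p⁆ = -c) (fc : ⁅f, c⁆ = 0) (pc : ⁅p, c⁆ = 0)
    (he0 : e ≠ 0) :
    (LieAlgebra.radical K A).toSubmodule.map (A.incl : A →ₗ⁅K⁆ L).toLinearMap =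
      Submodule.span K {p, c} := by
  classical
  let B : Submodule K L := Submodule.span K {p, c}
  have hpB : p ∈ B := Submodule.subset_span (by simp)
  have hcB : c ∈ B := Submodule.subset_span (by simp)
  have hBA : ∀ y ∈ B, y ∈ A := fun y hy => by
    obtain ⟨s, t, rfl⟩ := Submodule.mem_span_pair.mp hy
    exact A.add_mem (A.smul_mem _ hp) (A.smul_mem _ hc)
  have hdec : ∀ x ∈ A, ∃ α β γ : K, ∃ y ∈ B, x = α • e + β • f + γ • h + y := by
    intro x hx
    have := hspan x hx
    rw [Submodule.mem_span_insert] at this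
    obtain ⟨α, z, hz, rfl⟩ := this
    rw [Submodule.mem_span_insert] at hz
    obtain ⟨β, z, hz, rfl⟩ := hz
    rw [Submodule.mem_span_insert] at hz
    obtain ⟨γ, y, hy, rfl⟩ := hz
    exact ⟨α, β, γ, y, hy, by abel⟩
  have hideal : ∀ x ∈ A, ∀ y ∈ B, ⁅x, y⁆ ∈ B := by
    intro x hx y hy
    obtain ⟨α, β, γ, z, hz, rfl⟩ := hdec x hx
    obtain ⟨s, t, rfl⟩ := Submodule.mem_span_pair.mp hy
    obtain ⟨s', t', rfl⟩ := Submodule.mem_span_pair.mp hz
    simp only [add_lie, lie_add, smul_lie, lie_smul, neg_lie, lie_neg, ep, ec, fp, fc, hp1, hc1, pc, lie_self,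
      ← lie_skew c p, smul_zero, neg_zero, add_zero, zero_add]
    exact B.add_mem
      (B.smul_mem _ (B.add_mem (B.smul_mem _ (B.neg_mem hcB)) (B.smul_mem _ hpB)))
      (B.smul_mem _ (B.add_mem (B.smul_mem _ (B.neg_mem hpB)) (B.smul_mem _ (B.neg_mem hcB))))
  let I : LieIdeal K A :=
    { carrier := {x | (x : L) ∈ B}
      add_mem' := fun hx hy => B.add_mem hx hy
      zero_mem' := B.zero_mem
      smul_mem' := fun r x hx => B.smul_mem r hx
      lie_mem := fun {x m} hm => hideal x x.2 m hm }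
  have hIab : LieModule.IsTrivial I I := ⟨fun x y => by
    apply Subtype.ext; apply Subtype.ext
    obtain ⟨s, t, hx⟩ := Submodule.mem_span_pair.mp x.2
    obtain ⟨s', t', hy⟩ := Submodule.mem_span_pair.mp y.2
    show ⁅((x : A) : L), ((y : A) : L)⁆ = 0
    rw [← hx, ← hy]
    simp [pc, ← lie_skew c p]⟩
  have : IsLieAbelian I := hIab
  have hIsolv : LieAlgebra.IsSolvable I := inferInstance
  have hle : I ≤ LieAlgebra.radical K A := (LieIdeal.solvable_iff_le_radical K A I).mp hIsolv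
  -- the radical misses `e`
  have heR : (⟨e, he⟩ : A) ∉ LieAlgebra.radical K A := by
    intro hmem
    let R := LieAlgebra.radical K A
    have hhR : (⟨h, hh⟩ : A) ∈ R := by
      have := R.lie_mem (x := (⟨f, hf⟩ : A)) hmem
      have e1 : ⁅(⟨f, hf⟩ : A), (⟨e, he⟩ : A)⁆ = -⟨h, hh⟩ := Subtype.ext (by
        show ⁅f, e⁆ = -h
        rw [← lie_skew, ef])
      rw [e1] at this
      simpa using R.neg_mem this
    have hfR : (⟨f, hf⟩ : A) ∈ R := by
      have := R.lie_mem (x := (⟨f, hf⟩ : A)) hhR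
      have e1 : ⁅(⟨f, hf⟩ : A), (⟨h, hh⟩ : A)⁆ = (2 : K) • ⟨f, hf⟩ := Subtype.ext (by
        show ⁅f, h⁆ = (2 : K) • f
        rw [← lie_skew, hf2, neg_smul, neg_neg])
      rw [e1] at this
      exact ((R : Submodule K A).smul_mem_iff two_ne_zero).mp this
    have htop : R = ⊤ := by
      rw [eq_top_iff]
      intro x _
      obtain ⟨α, β, γ, y, hy, hx⟩ := hdec x x.2
      have hyR : (⟨y, hBA y hy⟩ : A) ∈ R := hle (show (⟨y, hBA y hy⟩ : A) ∈ I from hy)
      have : x = α • (⟨e, he⟩ : A) + β • ⟨f, hf⟩ + γ • ⟨h, hh⟩ + ⟨y, hBA y hy⟩ :=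
        Subtype.ext (by simpa using hx)
      rw [this]
      exact R.add_mem (R.add_mem (R.add_mem (R.smul_mem _ hmem) (R.smul_mem _ hfR))
        (R.smul_mem _ hhR)) hyR
    have hsolv : LieAlgebra.IsSolvable A := by
      have := LieAlgebra.radicalIsSolvable K A
      rw [show LieAlgebra.radical K A = ⊤ from htop] at this
      exact (LieAlgebra.solvable_iff_equiv_solvable LieIdeal.topEquiv).mp this
    have hD : LieAlgebra.derivedSeries K A 1 = ⊤ := by
      let D := LieAlgebra.derivedSeries K A 1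
      have hbr : ∀ x y : A, ⁅x, y⁆ ∈ D := fun x y =>
        LieSubmodule.lie_mem_lie (LieSubmodule.mem_top x) (LieSubmodule.mem_top y)
      have m1 : ∀ (r : K) (hr : r ≠ 0) (x : A) (y : A), ⁅x, y⁆ ∈ D → ∀ z : A, ⁅x, y⁆ = r • z → z ∈ D :=
        fun r hr x y hxy z hz => ((D : Submodule K A).smul_mem_iff hr).mp (hz ▸ hxy)
      have de : (⟨e, he⟩ : A) ∈ D :=
        m1 2 two_ne_zero ⟨h, hh⟩ ⟨e, he⟩ (hbr _ _) _ (Subtype.ext he2)
      have df : (⟨f, hf⟩ : A) ∈ D :=
        m1 (-2) (neg_ne_zero.mpr two_ne_zero) ⟨h, hh⟩ ⟨f, hf⟩ (hbr _ _) _ (Subtype.ext hf2)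
      have dh : (⟨h, hh⟩ : A) ∈ D :=
        m1 1 one_ne_zero ⟨e, he⟩ ⟨f, hf⟩ (hbr _ _) _ (Subtype.ext (by simpa using ef))
      have dp : (⟨p, hp⟩ : A) ∈ D :=
        m1 1 one_ne_zero ⟨h, hh⟩ ⟨p, hp⟩ (hbr _ _) _ (Subtype.ext (by simpa using hp1))
      have dc : (⟨c, hc⟩ : A) ∈ D :=
        m1 (-1) (neg_ne_zero.mpr one_ne_zero) ⟨h, hh⟩ ⟨c, hc⟩ (hbr _ _) _
          (Subtype.ext (by simpa using hc1))
      show D = ⊤
      rw [eq_top_iff]
      intro x _
      obtain ⟨α, β, γ, y, hy, hx⟩ := hdec x x.2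
      obtain ⟨s, t, rfl⟩ := Submodule.mem_span_pair.mp hy
      have : x = α • (⟨e, he⟩ : A) + β • ⟨f, hf⟩ + γ • ⟨h, hh⟩ +
          (s • ⟨p, hp⟩ + t • ⟨c, hc⟩) := Subtype.ext (by simpa using hx)
      rw [this]
      exact D.add_mem (D.add_mem (D.add_mem (D.smul_mem _ de) (D.smul_mem _ df))
        (D.smul_mem _ dh)) (D.add_mem (D.smul_mem _ dp) (D.smul_mem _ dc))
    obtain ⟨k, hk⟩ := hsolv.solvable (R := K) (L := A)
    rw [LieIdeal.derivedSeries_eq_top k hD] at hk
    have h1 : (⟨e, he⟩ : A) ∈ (⊥ : LieIdeal K A) := hk ▸ LieSubmodule.mem_top _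
    exact he0 (congrArg Subtype.val ((LieSubmodule.mem_bot _).mp h1))
  refine le_antisymm ?_ ?_
  · rintro _ ⟨x, hxR, rfl⟩
    show (x : L) ∈ B
    obtain ⟨α, β, γ, y, hy, hx⟩ := hdec x x.2
    let R := LieAlgebra.radical K A
    have key : ∀ (r : K), r ≠ 0 → ∀ (u : A), u ∈ R → (u : L) - r • e ∈ B → False := by
      intro r hr u hu hd
      refine heR ?_
      have h1 : (⟨(u : L) - r • e, hBA _ hd⟩ : A) ∈ R :=
        hle (show (⟨(u : L) - r • e, hBA _ hd⟩ : A) ∈ I from hd)
      have h2 := R.sub_mem hu h1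
      have e2 : u - (⟨(u : L) - r • e, hBA _ hd⟩ : A) = r • ⟨e, he⟩ := Subtype.ext (by simp)
      rw [e2] at h2
      exact ((R : Submodule K A).smul_mem_iff hr).mp h2
    have hu1 : ⁅(⟨e, he⟩ : A), x⁆ ∈ R := R.lie_mem hxR
    have hu2 : ⁅(⟨e, he⟩ : A), ⁅(⟨e, he⟩ : A), x⁆⁆ ∈ R := R.lie_mem hu1
    have eh : ⁅e, h⁆ = -((2 : K) • e) := by rw [← lie_skew, he2]
    have hy1 := hideal e he y hy
    have hy2 := hideal e he _ hy1
    have hβ : β = 0 := by
      by_contra hβ
      refine key (-(2 * β)) (neg_ne_zero.mpr (mul_ne_zero two_ne_zero hβ)) _ hu2 ?_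
      show ⁅e, ⁅e, (x : L)⁆⁆ - _ ∈ B
      rw [hx]
      simp only [lie_add, lie_smul, lie_neg, ef, eh, lie_self, smul_zero, neg_zero, zero_add,
        add_zero]
      convert hy2 using 1
      module
    have hγ : γ = 0 := by
      by_contra hγ
      refine key (-(2 * γ)) (neg_ne_zero.mpr (mul_ne_zero two_ne_zero hγ)) _ hu1 ?_
      show ⁅e, (x : L)⁆ - _ ∈ B
      rw [hx, hβ]
      simp only [lie_add, lie_smul, eh, lie_self, smul_zero, zero_smul, lie_zero, zero_add,
        add_zero]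
      convert hy1 using 1
      module
    have hα : α = 0 := by
      by_contra hα
      refine key α hα x hxR ?_
      rw [hx, hβ, hγ]
      convert hy using 1
      simp
    rw [hx, hα, hβ, hγ]
    simpa using hy
  · intro y hy
    exact ⟨⟨y, hBA y hy⟩, hle (show (⟨y, hBA y hy⟩ : A) ∈ I from hy), rfl⟩

end Abstract

variable {ι : Type u} {K : Type v} {L : Type w} [Fintype ι] [Field K] [CharZero K]
  [IsAlgClosed K] [LieRing L] [LieAlgebra K L] [FiniteDimensional K L] [LieAlgebra.IsSimple K L]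
  {H : LieSubalgebra K L} [H.IsCartanSubalgebra] (b : LieAlgebra.Basis ι H)

theorem wt_neg {χ : Module.Dual K H} (h : Wt H χ) : Wt H (-χ) :=
  (-(mkW h)).genWeightSpace_ne_bot

theorem five {ρ : Module.Dual K H}
    (hρ : rootSpace H ρ ≠ ⊥) (htop : ∀ i, rootSpace H (ρ + b.baseSupp i) = ⊥)
    {j : ι} (hj : ρ (b.h' j) = 1)
    (A : LieSubalgebra K L)
    (hA : A = LieSubalgebra.lieSpan K L
      ((rootSpace H ρ : Set L) ∪ (rootSpace H ((-ρ : Module.Dual K H)) : Set L) ∪
        (rootSpace H ((ρ - b.baseSupp j : Module.Dual K H)) : Set L))) :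
    Module.finrank K A = 5 ∧ Module.finrank K (LieAlgebra.radical K A) = 2 ∧
      (LieAlgebra.radical K A).toSubmodule.map (A.incl : A →ₗ⁅K⁆ L).toLinearMap =
        (rootSpace H ((ρ - b.baseSupp j : Module.Dual K H)) : Submodule K L) ⊔
          (rootSpace H ((-b.baseSupp j : Module.Dual K H)) : Submodule K L) := by
  classical
  have hρ0 := rho_ne_zero b hj
  have hσ0 := rho_sub_ne_zero b hj
  have hnz : (mkW (χ := ρ) hρ).IsNonZero := fun hz => hρ0 (DFunLike.coe_injective hz)
  obtain ⟨h, e, f, ht, he, hf⟩ := exists_isSl2Triple_of_weight_isNonZero hnz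
  have he0 := ht.e_ne_zero
  have hf0 := ht.f_ne_zero
  change e ∈ rootSpace H ρ at he
  change f ∈ rootSpace H ((-ρ : Module.Dual K H)) at hf
  have hh : h = (coroot (mkW (χ := ρ) hρ) : L) := ht.h_eq_coroot hnz he hf
  set hc : H := coroot (mkW (χ := ρ) hρ)
  set c := b.f j
  set p := ⁅c, e⁆
  have hc' := f_mem b j
  have hp : p ∈ rootSpace H ((ρ - b.baseSupp j : Module.Dual K H)) := by
    have := lie_mem_add hc' he
    rwa [neg_add_eq_sub] at this
  have ev : ∀ {χ : Module.Dual K H} {x : L}, x ∈ rootSpace H χ → ⁅h, x⁆ = χ hc • x :=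
    fun hx => by rw [hh]; exact lie_smul hx hc
  have ep : ⁅e, p⁆ = 0 := by
    refine eq_zero_of_not_wt ?_ (lie_mem_add he hp)
    intro hw
    obtain ⟨n, hn⟩ := exists_cmb b hρ htop hw
    obtain ⟨m, hm⟩ := exists_cmb b hρ htop (wt_base b j)
    have h1 : cmb b (m + n) = cmb b 0 := by
      rw [cmb_add, cmb_zero]
      linear_combination (norm := abel) (1 : ℤ) • hn + (1 : ℤ) • hm
    have h2 := cmb_injective b h1
    have : m = 0 := funext fun i => by
      have := congrFun h2 i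
      simp only [Pi.add_apply, Pi.zero_apply] at this
      exact Nat.eq_zero_of_add_eq_zero_right this
    rw [this, cmb_zero, sub_zero] at hm
    rw [← hm, Basis.baseSupp_apply_h'] at hj
    have : IsAddTorsionFree L := .of_isTorsionFree K L
    rw [Basis.A_diag_eq_two] at hj
    norm_num at hj
  have fc : ⁅f, c⁆ = 0 := by
    refine eq_zero_of_not_wt ?_ (lie_mem_add hf hc')
    intro hw
    have := wt_neg hw
    rw [neg_add, neg_neg, neg_neg] at this
    exact this (htop j)
  have ec : ⁅e, c⁆ = -p := by rw [← lie_skew]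
  have hejp : ⁅b.e j, p⁆ = e := by
    have h0 : ⁅b.e j, e⁆ = 0 :=
      eq_zero_of_not_wt (fun hw => hw (by rw [add_comm]; exact htop j))
        (lie_mem_add (e_mem b j) he)
    rw [leibniz_lie, (b.sl2 j).lie_e_f, h0, lie_zero, add_zero]
    rw [show ⁅b.h j, e⁆ = ρ (b.h' j) • e from lie_smul he (b.h' j), hj, one_smul]
  have hp0 : p ≠ 0 := fun h0 => he0 (by rw [← hejp, h0, lie_zero])
  have hf2 : ⁅h, f⁆ = (-2 : K) • f := by
    rw [ht.lie_h_f_nsmul, neg_smul, ← Nat.cast_ofNat (R := K), Nat.cast_smul_eq_nsmul]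
  have ρhc : ρ hc = 2 := root_apply_coroot hnz
  set t := b.baseSupp j hc
  have hct : ⁅h, c⁆ = (-t) • c := by rw [ev hc']; rfl
  have hpt : ⁅h, p⁆ = (2 - t) • p := by rw [ev hp, LinearMap.sub_apply, ρhc]
  have fp : ⁅f, p⁆ = (-t) • c := by
    rw [leibniz_lie, fc, zero_lie, zero_add, ← lie_skew f e, ht.lie_e_f, lie_neg, lie_skew, hct]
  have ht1 : t = 1 := by
    have e1 : ⁅h, p⁆ = ⁅e, ⁅f, p⁆⁆ - ⁅f, ⁅e, p⁆⁆ := by rw [← ht.lie_e_f, lie_lie]
    rw [ep, lie_zero, sub_zero, fp, _root_.lie_smul, ec, hpt] at e1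
    have e2 : (2 - t - t) • p = 0 := by
      rw [sub_smul, e1]
      module
    have := (smul_eq_zero.mp e2).resolve_right hp0
    linear_combination (-1 / 2 : K) * this
  rw [ht1] at hct hpt fp
  have hp1 : ⁅h, p⁆ = p := by rw [hpt]; norm_num
  have hc1 : ⁅h, c⁆ = -c := by rw [hct]; simp
  have fp1 : ⁅f, p⁆ = -c := by rw [fp]; simp
  have pc : ⁅p, c⁆ = 0 := by
    refine eq_zero_of_not_wt ?_ (lie_mem_add hp hc')
    rw [← sub_eq_add_neg]
    exact not_wt_sub_sub b hρ htop hj
  let v5 : Fin 5 → L := ![e, f, h, p, c]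
  let S : Submodule K L := Submodule.span K {e, f, h, p, c}
  have me : e ∈ S := Submodule.subset_span (by simp)
  have mf : f ∈ S := Submodule.subset_span (by simp)
  have mh : h ∈ S := Submodule.subset_span (by simp)
  have mp : p ∈ S := Submodule.subset_span (by simp)
  have mc : c ∈ S := Submodule.subset_span (by simp)
  let SA : LieSubalgebra K L :=
    { S with
      lie_mem' := fun {x y} hx hy => by
        have gen : ∀ u ∈ ({e, f, h, p, c} : Set L), ∀ w ∈ ({e, f, h, p, c} : Set L),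
            ⁅u, w⁆ ∈ S := by
          intro u hu w hw
          rcases hu with rfl | rfl | rfl | rfl | rfl <;>
            rcases hw with rfl | rfl | rfl | rfl | rfl <;>
            first
              | (rw [lie_self]; exact S.zero_mem)
              | simp only [ep, ec, fc, fp1, hp1, hc1, pc, ht.lie_e_f, hf2, ht.lie_h_e_smul K,
                  S.neg_mem_iff, S.zero_mem, me, mf, mh, mp, mc, S.smul_mem]
              | (rw [← lie_skew]
                 simp only [ep, ec, fc, fp1, hp1, hc1, pc, ht.lie_e_f, hf2, ht.lie_h_e_smul K,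
                  S.neg_mem_iff, S.zero_mem, me, mf, mh, mp, mc, S.smul_mem])
        change x ∈ S at hx
        change y ∈ S at hy
        change ⁅x, y⁆ ∈ S
        induction hx using Submodule.span_induction with
        | mem u hu =>
          induction hy using Submodule.span_induction with
          | mem w hw => exact gen u hu w hw
          | zero => simp
          | add _ _ _ _ h1 h2 => rw [lie_add]; exact S.add_mem h1 h2
          | smul r _ _ h1 => rw [LieAlgebra.lie_smul]; exact S.smul_mem r h1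
        | zero => simp
        | add _ _ _ _ h1 h2 => rw [add_lie]; exact S.add_mem h1 h2
        | smul r _ _ h1 => rw [smul_lie]; exact S.smul_mem r h1 }
  have hsub : S ≤ A.toSubmodule := by
    have g1 : e ∈ A := hA ▸ LieSubalgebra.subset_lieSpan (Or.inl (Or.inl he))
    have g2 : f ∈ A := hA ▸ LieSubalgebra.subset_lieSpan (Or.inl (Or.inr hf))
    have g4 : p ∈ A := hA ▸ LieSubalgebra.subset_lieSpan (Or.inr hp)
    refine Submodule.span_le.mpr ?_
    rintro x (rfl | rfl | rfl | rfl | rfl)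
    · exact g1
    · exact g2
    · rw [← ht.lie_e_f]; exact A.lie_mem g1 g2
    · exact g4
    · have := A.lie_mem g2 g4
      rw [fp1] at this
      exact neg_mem_iff.mp this
  have hsup : A ≤ SA := by
    rw [hA, LieSubalgebra.lieSpan_le]
    have one : ∀ {χ : Module.Dual K H} {v : L}, χ ≠ 0 → v ∈ rootSpace H χ → v ≠ 0 → v ∈ S →
        ∀ x ∈ rootSpace H χ, x ∈ S := fun h0 hv hv0 hvS x hx => by
      rw [← LieSubmodule.mem_toSubmodule, eq_span h0 hv hv0, Submodule.mem_span_singleton] at hx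
      obtain ⟨r, rfl⟩ := hx
      exact S.smul_mem r hvS
    rintro x ((hx | hx) | hx)
    · exact one hρ0 he he0 me x hx
    · exact one (neg_ne_zero.mpr hρ0) hf hf0 mf x hx
    · exact one hσ0 hp hp0 mp x hx
  have hrad := radical_eq_of_span A e f h p c (hsub me) (hsub mf) (hsub mh) (hsub mp) (hsub mc)
    (fun x hx => hsup hx) ht.lie_e_f (ht.lie_h_e_smul K) hf2 hp1 hc1 ep ec fp1 fc pc he0
  have hli : LinearIndependent K v5 := by
    refine Module.End.eigenvectors_linearIndependent' (LieAlgebra.ad K L h)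
      (![2, -2, 0, 1, -1] : Fin 5 → K) ?_ v5 ?_
    · intro a a' haa
      fin_cases a <;> fin_cases a' <;> first | rfl | (exfalso; norm_num at haa)
    · intro k
      fin_cases k <;>
        simp [v5, Module.End.hasEigenvector_iff, ht.lie_h_e_smul K, hf2, hp1, hc1, he0,
          hf0, hp0, ht.h_ne_zero, (b.sl2 j).f_ne_zero, c]
  have hS5 : Module.finrank K S = 5 := by
    have hr : Set.range v5 = {e, f, h, p, c} := by
      ext x; simp [v5]; tauto
    have := finrank_span_eq_card hli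
    rw [hr] at this
    simpa [S] using this
  have heq : A.toSubmodule = S := le_antisymm hsup hsub
  refine ⟨?_, ?_, ?_⟩
  · show Module.finrank K A.toSubmodule = 5
    rw [heq, hS5]
  · show Module.finrank K (LieAlgebra.radical K A).toSubmodule = 2
    rw [LinearEquiv.finrank_eq (Submodule.equivMapOfInjective
      (A.incl : A →ₗ⁅K⁆ L).toLinearMap Subtype.coe_injective (LieAlgebra.radical K A).toSubmodule),
      hrad]
    have hinj : Function.Injective ![(3 : Fin 5), 4] := by decide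
    have h2 := finrank_span_eq_card (hli.comp ![(3 : Fin 5), 4] hinj)
    have hr2 : Set.range (v5 ∘ ![(3 : Fin 5), 4]) = {p, c} := by
      rw [Set.range_comp, Matrix.range_cons, Matrix.range_cons, Matrix.range_empty]
      simp only [v5, Set.union_empty, Set.singleton_union, Set.image_insert_eq, Set.image_singleton]
      rfl
    rw [hr2, Fintype.card_fin] at h2
    exact h2
  · rw [hrad, Submodule.span_insert, eq_span hσ0 hp hp0,
      eq_span (neg_ne_zero.mpr (base_ne_zero b j)) hc' (b.sl2 j).f_ne_zero]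

end Groth.Agent.Lib.AdjVar.Five
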