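import Groth.Agent.Lib.AdjVar.Stable
import Mathlib.LinearAlgebra.QuadraticForm.Basic

/-!
Borel semi-invariant quadratic forms on a stable three-dimensional subspace.
-/

set_option autoImplicit false
set_option maxHeartbeats 1000000

universe u v w

open LieAlgebra LieModule LieAlgebra.IsKilling

namespace Groth.Agent.Lib.AdjVar.Quad

open Groth.Agent.Lib.AdjVar.Root Groth.Agent.Lib.AdjVar.Stable

variable {ι : Type u} {K : Type v} {L : Type w} [Fintype ι] [Field K] [CharZero K]
  [IsAlgClosed K] [LieRing L] [LieAlgebra K L] [FiniteDimensional K L] [LieAlgebra.IsSimple K L]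
  {H : LieSubalgebra K L} [H.IsCartanSubalgebra] (b : LieAlgebra.Basis ι H)

theorem quad_rank_le_one {ρ : Module.Dual K H}
    (hρ : rootSpace H ρ ≠ ⊥) (htop : ∀ i, rootSpace H (ρ + b.baseSupp i) = ⊥)
    {j : ι} (hN : ∀ i, ρ (b.h' i) ≠ 0 ↔ i = j) (hj : ρ (b.h' j) = 1)
    {W : Submodule K L} (hW : BorelStable b W) (h3 : Module.finrank K W = 3)
    (q : QuadraticForm K W)
    (hq : ∀ (x : L) (hx : x ∈ H.toSubmodule ⊔ (b.borelUpper : Submodule K L)), ∃ c : K, ∀ w : W,
      QuadraticMap.polar q ⟨⁅x, (w : L)⁆, hW x hx w w.property⟩ w = c * q w) :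
    ∃ (ℓ : Module.Dual K W) (c : K), ∀ w : W, q w = c * ℓ w ^ 2 := by
  obtain ⟨i, hij, hwt, hτ0, -, hWeq⟩ := plane_shape b hρ htop hN hj hW h3
  have hσ := wt_sub b hρ htop hj
  obtain ⟨va, hva, hva0⟩ := exists_ne_zero hρ
  obtain ⟨vb, hvb, hvb0⟩ := exists_ne_zero hσ
  obtain ⟨vc, hvc, hvc0⟩ := exists_ne_zero hwt
  have hρ0 := rho_ne_zero b hj
  have hσ0 := rho_sub_ne_zero b hj
  have haW : va ∈ W := hWeq ▸ Submodule.mem_sup_left (Submodule.mem_sup_left hva)
  have hbW : vb ∈ W := hWeq ▸ Submodule.mem_sup_left (Submodule.mem_sup_right hvb)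
  have hcW : vc ∈ W := hWeq ▸ Submodule.mem_sup_right hvc
  -- the values of the raising operators
  have hjb : ⁅b.e j, vb⁆ ≠ 0 := fun h0 => by
    have hkill : ∀ k, ⁅b.e k, vb⁆ = 0 := fun k => by
      by_cases hk : k = j
      · exact hk ▸ h0
      · exact eq_zero_of_not_wt (by rw [add_comm]; exact not_wt_add_one b hρ htop j k hk)
          (lie_mem_add (e_mem b k) hvb)
    exact base_ne_zero b j (sub_eq_self.mp (eq_of_killed b hρ htop hvb hvb0 hkill))
  have hib : ⁅b.e i, vb⁆ = 0 :=
    eq_zero_of_not_wt (by rw [add_comm]; exact not_wt_add_one b hρ htop j i hij)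
      (lie_mem_add (e_mem b i) hvb)
  have hjc : ⁅b.e j, vc⁆ = 0 := by
    refine eq_zero_of_not_wt (χ := b.baseSupp j + (ρ - b.baseSupp j - b.baseSupp i)) ?_
      (lie_mem_add (e_mem b j) hvc)
    rw [show b.baseSupp j + (ρ - b.baseSupp j - b.baseSupp i) = ρ - b.baseSupp i by abel]
    exact not_wt_sub b hρ htop hN i hij
  have hic : ⁅b.e i, vc⁆ ≠ 0 := fun h0 => by
    have hkill : ∀ k, ⁅b.e k, vc⁆ = 0 := fun k => by
      by_cases hk : k = j
      · exact hk ▸ hjc
      by_cases hk' : k = i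
      · exact hk' ▸ h0
      exact eq_zero_of_not_wt (by rw [add_comm]; exact not_wt_add_two b hρ htop j i k hk hk')
        (lie_mem_add (e_mem b k) hvc)
    have h1 := eq_of_killed b hρ htop hvc hvc0 hkill
    refine not_wt_sub_sub b hρ htop hj ?_
    have h2 : b.baseSupp j + b.baseSupp i = 0 := by
      linear_combination (norm := abel) (-1 : ℤ) • h1
    classical
    have h3 : cmb b (Pi.single j 1 + Pi.single i 1) = cmb b 0 := by
      rw [cmb_add, cmb_single, cmb_single, cmb_zero, h2]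
    have h4 := congrFun (cmb_injective b h3) j
    simp [Pi.single_eq_of_ne hij.symm] at h4
  obtain ⟨lam, hlam⟩ : ∃ lam : K, ⁅b.e j, vb⁆ = lam • va := by
    have := lie_mem_add (e_mem b j) hvb
    rw [add_sub_cancel, ← LieSubmodule.mem_toSubmodule, eq_span hρ0 hva hva0,
      Submodule.mem_span_singleton] at this
    obtain ⟨t, ht⟩ := this
    exact ⟨t, ht.symm⟩
  obtain ⟨mu, hmu⟩ : ∃ mu : K, ⁅b.e i, vc⁆ = mu • vb := by
    have := lie_mem_add (e_mem b i) hvc
    rw [add_sub_cancel, ← LieSubmodule.mem_toSubmodule, eq_span hσ0 hvb hvb0,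
      Submodule.mem_span_singleton] at this
    obtain ⟨t, ht⟩ := this
    exact ⟨t, ht.symm⟩
  have hlam0 : lam ≠ 0 := fun h => hjb (by simp [hlam, h])
  have hmu0 : mu ≠ 0 := fun h => hic (by simp [hmu, h])
  -- polarisation
  let B := QuadraticMap.polarBilin q
  have hpol : ∀ (x : L) (hx : x ∈ H.toSubmodule ⊔ (b.borelUpper : Submodule K L)), ∃ c : K,
      ∀ u w : W, B ⟨⁅x, (u : L)⁆, hW x hx u u.property⟩ w +
        B ⟨⁅x, (w : L)⁆, hW x hx w w.property⟩ u = c * B u w := by
    intro x hx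
    obtain ⟨c, hc⟩ := hq x hx
    refine ⟨c, fun u w => ?_⟩
    have e1 : B ⟨⁅x, (u : L)⁆, hW x hx u u.property⟩ u = c * q u := hc u
    have e2 : B ⟨⁅x, (w : L)⁆, hW x hx w w.property⟩ w = c * q w := hc w
    have e3 : B ⟨⁅x, ((u + w : W) : L)⁆, hW x hx _ (u + w).property⟩ (u + w) = c * q (u + w) :=
      hc (u + w)
    have e4 : (⟨⁅x, ((u + w : W) : L)⁆, hW x hx _ (u + w).property⟩ : W) =
        ⟨⁅x, (u : L)⁆, hW x hx u u.property⟩ + ⟨⁅x, (w : L)⁆, hW x hx w w.property⟩ :=
      Subtype.ext (by simp [lie_add])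
    have e5 := (congrArg (fun t => B t (u + w)) e4).symm.trans e3
    rw [LinearMap.map_add₂, map_add, map_add, e1, e2, QuadraticMap.map_add q] at e5
    rw [show B u w = QuadraticMap.polar q u w from rfl]
    linear_combination e5
  have hdiag : ∀ u : W, B u u = 2 * q u := fun u => by
    show QuadraticMap.polar q u u = _
    rw [QuadraticMap.polar_self, nsmul_eq_mul]; simp
  -- eigenvectors for `H` of different character
  have hH : ∀ (μ ν μ' ν' : Module.Dual K H) (u w u' w' : W),
      (u : L) ∈ rootSpace H μ → (w : L) ∈ rootSpace H ν →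
      (u' : L) ∈ rootSpace H μ' → (w' : L) ∈ rootSpace H ν' →
      B u w ≠ 0 → μ + ν ≠ μ' + ν' → B u' w' = 0 := by
    intro μ ν μ' ν' u w u' w' hu hw hu' hw' hne hdiff
    obtain ⟨h, hh⟩ : ∃ h, (μ + ν) h ≠ (μ' + ν') h := by
      by_contra h'
      push Not at h'
      exact hdiff (LinearMap.ext h')
    obtain ⟨c, hc⟩ := hpol (h : L) (h_mem_borel b h)
    have act : ∀ (π : Module.Dual K H) (z : W) (hz : (z : L) ∈ rootSpace H π),
        (⟨⁅(h : L), (z : L)⁆, hW _ (h_mem_borel b h) z z.property⟩ : W) = π h • z :=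
      fun π z hz => Subtype.ext (by simp [lie_smul hz h])
    have e1 := hc u w
    have e2 := hc u' w'
    have sy : ∀ s t : W, B s t = B t s := fun s t => QuadraticMap.polar_comm q s t
    rw [act μ u hu, act ν w hw, map_smul, map_smul, LinearMap.smul_apply, LinearMap.smul_apply,
      smul_eq_mul, smul_eq_mul, sy w u] at e1
    rw [act μ' u' hu', act ν' w' hw', map_smul, map_smul, LinearMap.smul_apply,
      LinearMap.smul_apply, smul_eq_mul, smul_eq_mul, sy w' u'] at e2
    have e3 : ((μ + ν) h - c) * B u w = 0 := by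
      rw [LinearMap.add_apply]; linear_combination e1
    have e4 : ((μ' + ν') h - c) * B u' w' = 0 := by
      rw [LinearMap.add_apply]; linear_combination e2
    have hc' := (mul_eq_zero.mp e3).resolve_right hne
    rcases mul_eq_zero.mp e4 with h' | h'
    · exact absurd ((sub_eq_zero.mp hc').trans (sub_eq_zero.mp h').symm) hh
    · exact h'
  let ua : W := ⟨va, haW⟩
  let ub : W := ⟨vb, hbW⟩
  let uc : W := ⟨vc, hcW⟩
  have sy : ∀ s t : W, B s t = B t s := fun s t => QuadraticMap.polar_comm q s t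
  have hab : B ua ub = 0 := by
    by_contra hne
    have hbb : B ub ub = 0 := hH _ _ _ _ ua ub ub ub hva hvb hvb hvb hne fun h =>
      base_ne_zero b j (sub_eq_self.mp (add_right_cancel h).symm)
    obtain ⟨c, hc⟩ := hpol _ (e_mem_borel b j)
    have := hc ub ub
    rw [show (⟨⁅b.e j, (ub : L)⁆, hW _ (e_mem_borel b j) ub ub.property⟩ : W) = lam • ua from
      Subtype.ext (by simp [ua, ub, hlam]), map_smul, LinearMap.smul_apply, smul_eq_mul, hbb,
      mul_zero] at this
    exact hne ((mul_eq_zero.mp (show lam * B ua ub = 0 by linear_combination this / 2)).resolve_left hlam0)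
  have hbc : B ub uc = 0 := by
    by_contra hne
    have hcc : B uc uc = 0 := hH _ _ _ _ ub uc uc uc hvb hvc hvc hvc hne fun h =>
      base_ne_zero b i (sub_eq_self.mp (add_right_cancel h).symm)
    obtain ⟨c, hc⟩ := hpol _ (e_mem_borel b i)
    have := hc uc uc
    rw [show (⟨⁅b.e i, (uc : L)⁆, hW _ (e_mem_borel b i) uc uc.property⟩ : W) = mu • ub from
      Subtype.ext (by simp [ub, uc, hmu]), map_smul, LinearMap.smul_apply, smul_eq_mul, hcc,
      mul_zero] at this
    exact hne ((mul_eq_zero.mp (show mu * B ub uc = 0 by linear_combination this / 2)).resolve_left hmu0)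
  have hac : B ua uc = 0 := by
    obtain ⟨c, hc⟩ := hpol _ (e_mem_borel b j)
    have := hc ub uc
    rw [show (⟨⁅b.e j, (ub : L)⁆, hW _ (e_mem_borel b j) ub ub.property⟩ : W) = lam • ua from
      Subtype.ext (by simp [ua, ub, hlam]),
      show (⟨⁅b.e j, (uc : L)⁆, hW _ (e_mem_borel b j) uc uc.property⟩ : W) = 0 from
      Subtype.ext (by simp [uc, hjc]), map_smul, LinearMap.smul_apply, smul_eq_mul, map_zero,
      LinearMap.zero_apply, add_zero, hbc, mul_zero] at this
    exact (mul_eq_zero.mp this).resolve_left hlam0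
  -- coordinates
  have hspan : ∀ w : W, ∃ x y z : K, w = x • ua + y • ub + z • uc := by
    rintro ⟨w, hw⟩
    rw [hWeq, eq_span hρ0 hva hva0, eq_span hσ0 hvb hvb0, eq_span hτ0 hvc hvc0] at hw
    obtain ⟨p, hp, r, hr, rfl⟩ := Submodule.mem_sup.mp hw
    obtain ⟨s, hs, t, ht, rfl⟩ := Submodule.mem_sup.mp hp
    obtain ⟨x, rfl⟩ := Submodule.mem_span_singleton.mp hs
    obtain ⟨y, rfl⟩ := Submodule.mem_span_singleton.mp ht
    obtain ⟨z, rfl⟩ := Submodule.mem_span_singleton.mp hr
    exact ⟨x, y, z, Subtype.ext (by simp [ua, ub, uc])⟩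
  let v3 : Fin 3 → W := ![ua, ub, uc]
  have hsp : ⊤ ≤ Submodule.span K (Set.range v3) := by
    intro w _
    obtain ⟨x, y, z, rfl⟩ := hspan w
    exact Submodule.add_mem _ (Submodule.add_mem _
      (Submodule.smul_mem _ _ (Submodule.subset_span ⟨0, rfl⟩))
      (Submodule.smul_mem _ _ (Submodule.subset_span ⟨1, rfl⟩)))
      (Submodule.smul_mem _ _ (Submodule.subset_span ⟨2, rfl⟩))
  let bas : Module.Basis (Fin 3) K W := Module.Basis.mk
    (linearIndependent_of_top_le_span_of_card_eq_finrank hsp (by simp [h3])) hsp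
  have hqexp : ∀ w : W, q w =
      (bas.coord 0 w) ^ 2 * q ua + (bas.coord 1 w) ^ 2 * q ub + (bas.coord 2 w) ^ 2 * q uc := by
    intro w
    have hw : w = bas.coord 0 w • ua + bas.coord 1 w • ub + bas.coord 2 w • uc := by
      conv_lhs => rw [← bas.sum_repr w]
      simp [Fin.sum_univ_three, bas, v3]
    generalize bas.coord 0 w = x at hw ⊢
    generalize bas.coord 1 w = y at hw ⊢
    generalize bas.coord 2 w = z at hw ⊢
    subst hw
    refine mul_left_cancel₀ (two_ne_zero (α := K)) ?_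
    rw [← hdiag, LinearMap.map_add₂, LinearMap.map_add₂, LinearMap.map_smul₂, LinearMap.map_smul₂,
      LinearMap.map_smul₂]
    simp only [map_add, map_smul, smul_eq_mul, hab, hac,
      hbc, sy ub ua, sy uc ua, sy uc ub, hdiag]
    ring
  -- at most one diagonal entry
  have hone : ∀ (μ ν : Module.Dual K H) (u w : W), (u : L) ∈ rootSpace H μ →
      (w : L) ∈ rootSpace H ν → μ ≠ ν → q u ≠ 0 → q w = 0 := by
    intro μ ν u w hu hw hne hqu
    have := hH _ _ _ _ u u w w hu hu hw hw (by rw [hdiag]; exact mul_ne_zero two_ne_zero hqu)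
      fun h => hne (smul_right_injective (Module.Dual K H) (two_ne_zero (α := K))
        (by simpa only [two_smul] using h))
    rw [hdiag] at this
    exact (mul_eq_zero.mp this).resolve_left two_ne_zero
  have n1 : ρ ≠ ρ - b.baseSupp j := fun h => base_ne_zero b j (sub_eq_self.mp h.symm)
  have n2 : ρ - b.baseSupp j ≠ ρ - b.baseSupp j - b.baseSupp i := fun h =>
    base_ne_zero b i (sub_eq_self.mp h.symm)
  have n3 : ρ ≠ ρ - b.baseSupp j - b.baseSupp i := fun h => by
    classical
    have h2 : cmb b (Pi.single j 1 + Pi.single i 1) = cmb b 0 := by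
      rw [cmb_add, cmb_single, cmb_single, cmb_zero]
      linear_combination (norm := abel) (1 : ℤ) • h
    have h4 := congrFun (cmb_injective b h2) j
    simp [Pi.single_eq_of_ne hij.symm] at h4
  by_cases ha : q ua = 0
  · by_cases hb : q ub = 0
    · exact ⟨bas.coord 2, q uc, fun w => by rw [hqexp, ha, hb]; ring⟩
    · exact ⟨bas.coord 1, q ub, fun w => by
        rw [hqexp, ha, hone _ _ ub uc hvb hvc n2 hb]; ring⟩
  · exact ⟨bas.coord 0, q ua, fun w => by
      rw [hqexp, hone _ _ ua ub hva hvb n1 ha, hone _ _ ua uc hva hvc n3 ha]; ring⟩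

end Groth.Agent.Lib.AdjVar.Quad
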