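import Mathlib.Algebra.Lie.Basis.Base
import Mathlib.Algebra.Lie.Semisimple.Defs
import Mathlib.Algebra.Lie.Semisimple.Basic
import Mathlib.Algebra.Lie.CartanCriterion
import Mathlib.Algebra.Lie.Weights.RootSystem
import Mathlib.FieldTheory.IsAlgClosed.Basic

/-!
The highest root of a simple Lie algebra with a Chevalley basis and the root spaces next to it.
-/

set_option autoImplicit false

universe u v w

open LieAlgebra LieModule LieAlgebra.IsKilling

namespace Groth.Agent.Lib.AdjVar.Root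

variable {ι : Type u} {K : Type v} {L : Type w} [Fintype ι] [Field K] [CharZero K]
  [IsAlgClosed K] [LieRing L] [LieAlgebra K L] [FiniteDimensional K L] [LieAlgebra.IsSimple K L]
  {H : LieSubalgebra K L} [H.IsCartanSubalgebra] (b : LieAlgebra.Basis ι H)

/-- A functional with nonzero root space. -/
def Wt (H : LieSubalgebra K L) [H.IsCartanSubalgebra] (χ : Module.Dual K H) : Prop :=
  rootSpace H χ ≠ ⊥

/-- The weight attached to a functional with nonzero root space. -/
def mkW {χ : Module.Dual K H} (h : Wt H χ) : Weight K H L := ⟨χ, h⟩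

theorem mem_toSub {χ : Module.Dual K H} {x : L} :
    x ∈ (rootSpace H χ : Submodule K L) ↔ x ∈ rootSpace H χ := Iff.rfl

theorem eq_zero_of_not_wt {χ : Module.Dual K H} (h : ¬ Wt H χ) {x : L} (hx : x ∈ rootSpace H χ) :
    x = 0 := by
  rw [not_not.mp h] at hx
  simpa using hx

theorem lie_smul {χ : Module.Dual K H} {x : L} (hx : x ∈ rootSpace H χ) (h : H) :
    ⁅(h : L), x⁆ = χ h • x := by
  by_cases hw : Wt H χ
  · exact lie_eq_smul_of_mem_rootSpace (α := mkW hw) hx h
  · simp [eq_zero_of_not_wt hw hx]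

theorem lie_mem_add {χ₁ χ₂ : Module.Dual K H} {x y : L} (hx : x ∈ rootSpace H χ₁)
    (hy : y ∈ rootSpace H χ₂) : ⁅x, y⁆ ∈ rootSpace H ((χ₁ + χ₂ : Module.Dual K H)) := by
  exact lie_mem_genWeightSpace_of_mem_genWeightSpace hx hy

theorem e_mem (i : ι) : b.e i ∈ rootSpace H (b.baseSupp i) :=
  (mem_genWeightSpace _ _ _).mpr fun z => ⟨1, by simp⟩

theorem f_mem (i : ι) : b.f i ∈ rootSpace H ((-b.baseSupp i : Module.Dual K H)) :=
  (mem_genWeightSpace _ _ _).mpr fun z => ⟨1, by simp [← eq_neg_iff_add_eq_zero]⟩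

theorem wt_base (i : ι) : Wt H (b.baseSupp i) := by
  intro h
  have := e_mem b i
  rw [h] at this
  exact (b.sl2 i).e_ne_zero (by simpa using this)

/-- A combination of the simple roots with natural coefficients. -/
noncomputable def cmb (n : ι → ℕ) : Module.Dual K H := ∑ i, n i • b.baseSupp i

theorem cmb_add (n m : ι → ℕ) : cmb b (n + m) = cmb b n + cmb b m := by
  simp [cmb, add_smul, Finset.sum_add_distrib]

theorem cmb_zero : cmb b 0 = 0 := by simp [cmb]

theorem cmb_single [DecidableEq ι] (i : ι) : cmb b (Pi.single i 1) = b.baseSupp i := by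
  unfold cmb
  rw [Finset.sum_eq_single i]
  · simp
  · intro j _ hj; simp [Pi.single_eq_of_ne hj]
  · intro h; exact absurd (Finset.mem_univ i) h

theorem cmb_injective : Function.Injective (cmb b) := by
  intro n m h
  have hli := b.linearIndependent_baseSupp.restrict_scalars' ℕ
  funext i
  exact Fintype.linearIndependent_iffₛ.mp hli n m h i

theorem e_lie_f (i j : ι) [Decidable (i = j)] :
    ⁅b.e i, b.f j⁆ = if i = j then b.h i else 0 := by
  split_ifs with h
  · subst h; exact (b.sl2 i).lie_e_f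
  · exact b.lie_e_f_ne i j h

/-- All roots are obtained by descending from a nonzero vector killed by the `e i`. -/
theorem exists_cmb_of_killed {μ : Module.Dual K H} {v : L} (hv : v ∈ rootSpace H μ) (hv0 : v ≠ 0)
    (hkill : ∀ i, ⁅b.e i, v⁆ = 0) {χ : Module.Dual K H} (hχ : Wt H χ) :
    ∃ n, χ = μ - cmb b n := by
  classical
  let T : Submodule K L := ⨆ n : ι → ℕ, (rootSpace H ((μ - cmb b n : Module.Dual K H)) : Submodule K L)
  have hT : ∀ i, ∀ x ∈ T, ⁅b.f i, x⁆ ∈ T := by
    intro i x hx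
    induction hx using Submodule.iSup_induction' with
    | mem n y hy =>
      refine Submodule.mem_iSup_of_mem (n + Pi.single i 1) ?_
      have := lie_mem_add (f_mem b i) hy
      rw [cmb_add, cmb_single, show μ - (cmb b n + b.baseSupp i) = -b.baseSupp i + (μ - cmb b n) by abel]
      exact this
    | zero => simp
    | add y z _ _ hy hz => rw [lie_add]; exact T.add_mem hy hz
  -- the smallest `f`-stable submodule containing `v`
  let M : Submodule K L := sInf {N | v ∈ N ∧ ∀ i, ∀ x ∈ N, ⁅b.f i, x⁆ ∈ N}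
  have hvM : v ∈ M := by
    simp only [M, Submodule.mem_sInf, Set.mem_ofPred_eq]
    exact fun N hN => hN.1
  have hfM : ∀ i, ∀ x ∈ M, ⁅b.f i, x⁆ ∈ M := by
    intro i x hx
    simp only [M, Submodule.mem_sInf, Set.mem_ofPred_eq] at hx ⊢
    exact fun N hN => hN.2 i x (hx N hN)
  have hmin : ∀ N : Submodule K L, v ∈ N → (∀ i, ∀ x ∈ N, ⁅b.f i, x⁆ ∈ N) → M ≤ N :=
    fun N h1 h2 => sInf_le ⟨h1, h2⟩
  have hhM : ∀ h : H, ∀ x ∈ M, ⁅(h : L), x⁆ ∈ M := by
    let N : Submodule K L :=
      { carrier := {x | x ∈ M ∧ ∀ h : H, ⁅(h : L), x⁆ ∈ M}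
        add_mem' := fun {x y} hx hy => ⟨M.add_mem hx.1 hy.1, fun h => by
          rw [lie_add]; exact M.add_mem (hx.2 h) (hy.2 h)⟩
        zero_mem' := ⟨M.zero_mem, fun h => by simp⟩
        smul_mem' := fun c x hx => ⟨M.smul_mem c hx.1, fun h => by
          rw [LieAlgebra.lie_smul]; exact M.smul_mem c (hx.2 h)⟩ }
    have hle : M ≤ N := hmin N ⟨hvM, fun h => by
        rw [lie_smul hv]; exact M.smul_mem _ hvM⟩ fun i x hx => by
      refine ⟨hfM i x hx.1, fun h => ?_⟩
      rw [leibniz_lie, lie_smul (f_mem b i), smul_lie]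
      exact M.add_mem (M.smul_mem _ (hfM i x hx.1)) (hfM i _ (hx.2 h))
    exact fun h x hx => (hle hx).2 h
  have heM : ∀ i, ∀ x ∈ M, ⁅b.e i, x⁆ ∈ M := by
    let N : Submodule K L :=
      { carrier := {x | x ∈ M ∧ ∀ i, ⁅b.e i, x⁆ ∈ M}
        add_mem' := fun {x y} hx hy => ⟨M.add_mem hx.1 hy.1, fun i => by
          rw [lie_add]; exact M.add_mem (hx.2 i) (hy.2 i)⟩
        zero_mem' := ⟨M.zero_mem, fun h => by simp⟩
        smul_mem' := fun c x hx => ⟨M.smul_mem c hx.1, fun i => by
          rw [LieAlgebra.lie_smul]; exact M.smul_mem c (hx.2 i)⟩ }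
    have hle : M ≤ N := hmin N ⟨hvM, fun i => by rw [hkill]; exact M.zero_mem⟩ fun k x hx => by
      refine ⟨hfM k x hx.1, fun i => ?_⟩
      rw [leibniz_lie]
      refine M.add_mem ?_ (hfM k _ (hx.2 i))
      rw [e_lie_f]
      split_ifs
      · exact hhM (b.h' i) x hx.1
      · simp
    exact fun i x hx => (hle hx).2 i
  let S : LieSubalgebra K L :=
    { carrier := {x | ∀ m ∈ M, ⁅x, m⁆ ∈ M}
      add_mem' := fun {x y} hx hy m hm => by rw [add_lie]; exact M.add_mem (hx m hm) (hy m hm)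
      zero_mem' := fun m _ => by simp
      smul_mem' := fun c x hx m hm => by rw [smul_lie]; exact M.smul_mem c (hx m hm)
      lie_mem' := fun {x y} hx hy m hm => by
        rw [lie_lie]; exact M.sub_mem (hx _ (hy m hm)) (hy _ (hx m hm)) }
  have hS : ∀ x : L, x ∈ S := by
    intro x
    have hle : LieSubalgebra.lieSpan K L (Set.range b.e ∪ Set.range b.f) ≤ S := by
      rw [LieSubalgebra.lieSpan_le]
      rintro _ (⟨i, rfl⟩ | ⟨i, rfl⟩)
      · exact heM i
      · exact hfM i
    rw [b.span_ef] at hle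
    exact hle (LieSubalgebra.mem_top x)
  let I : LieIdeal K L := { M with lie_mem := fun {x m} hm => hS x m hm }
  have hI : I = ⊤ := (LieAlgebra.IsSimple.eq_bot_or_eq_top I).resolve_left fun h => hv0 <| by
    have : v ∈ I := hvM
    rw [h] at this
    simpa using this
  have hTtop : ∀ x : L, x ∈ T := fun x => hmin T (Submodule.mem_iSup_of_mem 0 (by
    rw [cmb_zero, sub_zero]; exact hv)) hT (show x ∈ I from hI ▸ LieSubmodule.mem_top x)
  by_contra hcon
  push Not at hcon
  refine hχ ?_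
  rw [LieSubmodule.eq_bot_iff]
  intro x hx
  let s : Set (H → K) := Set.range fun n => ⇑(μ - cmb b n)
  have hd : Disjoint (rootSpace H χ) (⨆ ψ ∈ s, genWeightSpace L ψ) :=
    (iSupIndep_genWeightSpace K H L).disjoint_biSup fun hmem => by
      obtain ⟨n, hn⟩ := hmem
      exact hcon n (DFunLike.coe_injective hn.symm)
  have hxT : x ∈ ⨆ ψ ∈ s, genWeightSpace L ψ := by
    rw [← LieSubmodule.mem_toSubmodule, iSup_range, LieSubmodule.iSup_toSubmodule]
    exact hTtop x
  rw [disjoint_iff] at hd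
  have : x ∈ rootSpace H χ ⊓ ⨆ ψ ∈ s, genWeightSpace L ψ := ⟨hx, hxT⟩
  rw [hd] at this
  simpa using this

theorem pairing_symm {α β : Weight K H L} (hα : α.IsNonZero) (hβ : β.IsNonZero)
    (h : α (coroot β) = 0) : β (coroot α) = 0 := by
  have := (rootSystem H).pairing_eq_zero_iff (i := ⟨α, by simpa using hα⟩) (j := ⟨β, by simpa using hβ⟩)
  simp only [rootSystem_pairing_apply] at this
  exact this.mp h

theorem base_ne_zero (i : ι) : b.baseSupp i ≠ 0 := b.linearIndependent_baseSupp.ne_zero i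

theorem coroot_mkW (i : ι) : coroot (mkW (wt_base b i)) = b.h' i := by
  rw [← b.coroot_eq_h' i]
  congr 1

theorem chain_facts (i : ι) {χ : Module.Dual K H} (hχ : Wt H χ) (htop : ¬ Wt H (χ + b.baseSupp i))
    (m : ℕ) (hm : χ (b.h' i) = m) :
    ∀ k : ℕ, Wt H (χ - k • b.baseSupp i) ↔ k ≤ m := by
  intro k
  have hα : (mkW (wt_base b i)).IsNonZero := by
    intro h
    refine base_ne_zero b i (DFunLike.coe_injective ?_)
    exact h
  have hkey := fun n : ℤ => rootSpace_zsmul_add_ne_bot_iff (mkW (wt_base b i)) (mkW hχ) hα n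
  have hcoe : ∀ n : ℤ, (n • ⇑(mkW (wt_base b i)) + ⇑(mkW hχ) : H → K) =
      ⇑(χ + n • b.baseSupp i) := fun n => by
    rw [add_comm]
    rfl
  have h1 : chainTopCoeff (⇑(mkW (wt_base b i))) (mkW hχ) = 0 := by
    by_contra hne
    apply htop
    have := (hkey 1).mpr ⟨by omega, by omega⟩
    rw [hcoe, one_smul] at this
    exact this
  have h2 : chainBotCoeff (⇑(mkW (wt_base b i))) (mkW hχ) = m := by
    have := apply_coroot_eq_cast (mkW (wt_base b i)) (mkW hχ)
    rw [coroot_mkW, show (mkW hχ) (b.h' i) = χ (b.h' i) from rfl, hm, h1] at this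
    simp only [Nat.cast_zero, sub_zero] at this
    exact_mod_cast this.symm
  have := hkey (-k)
  rw [hcoe, h1, h2] at this
  simpa [Wt, sub_eq_add_neg] using this

variable {ρ : Module.Dual K H}

theorem exists_cmb (hρ : rootSpace H ρ ≠ ⊥) (htop : ∀ i, rootSpace H (ρ + b.baseSupp i) = ⊥)
    {χ : Module.Dual K H} (hχ : Wt H χ) : ∃ n, χ = ρ - cmb b n := by
  obtain ⟨v, hv, hv0⟩ : ∃ v ∈ rootSpace H ρ, v ≠ 0 := by
    by_contra h
    push Not at h
    exact hρ ((LieSubmodule.eq_bot_iff _).mpr h)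
  refine exists_cmb_of_killed b hv hv0 (fun i => ?_) hχ
  refine eq_zero_of_not_wt (χ := b.baseSupp i + ρ) (fun h => h ?_) (lie_mem_add (e_mem b i) hv)
  rw [add_comm]
  exact htop i

theorem not_wt_add (hρ : rootSpace H ρ ≠ ⊥) (htop : ∀ i, rootSpace H (ρ + b.baseSupp i) = ⊥)
    (n : ι → ℕ) (i : ι) (hn : n i = 0) : ¬ Wt H (ρ - cmb b n + b.baseSupp i) := by
  classical
  intro h
  obtain ⟨m, hm⟩ := exists_cmb b hρ htop h
  have h1 : cmb b (m + Pi.single i 1) = cmb b n := by
    rw [cmb_add, cmb_single]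
    linear_combination (norm := abel) (1 : ℤ) • hm
  have := congrFun (cmb_injective b h1) i
  simp [hn] at this

/-- The only weight of a nonzero vector killed by all `e i` is the highest root. -/
theorem eq_of_killed (hρ : rootSpace H ρ ≠ ⊥) (htop : ∀ i, rootSpace H (ρ + b.baseSupp i) = ⊥)
    {μ : Module.Dual K H} {v : L} (hv : v ∈ rootSpace H μ) (hv0 : v ≠ 0)
    (hkill : ∀ i, ⁅b.e i, v⁆ = 0) : μ = ρ := by
  obtain ⟨n, hn⟩ := exists_cmb_of_killed b hv hv0 hkill hρ
  obtain ⟨m, hm⟩ := exists_cmb b hρ htop (χ := μ) fun h => hv0 (by rw [h] at hv; simpa using hv)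
  have h1 : cmb b (n + m) = cmb b 0 := by
    rw [cmb_add, cmb_zero]
    linear_combination (norm := abel) (1 : ℤ) • hn + (1 : ℤ) • hm
  have h2 := cmb_injective b h1
  have : n = 0 := funext fun i => by
    have := congrFun h2 i
    simp only [Pi.add_apply, Pi.zero_apply] at this
    exact Nat.eq_zero_of_add_eq_zero_right this
  rw [hn, this, cmb_zero, sub_zero]

end Groth.Agent.Lib.AdjVar.Root
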