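import Groth.Agent.Lib.AdjVar.Root

/-!
Borel stable subspaces of dimension two and three of a simple Lie algebra.
-/

set_option autoImplicit false
set_option maxHeartbeats 1000000

universe u v w

open LieAlgebra LieModule LieAlgebra.IsKilling

namespace Groth.Agent.Lib.AdjVar.Stable

open Groth.Agent.Lib.AdjVar.Root

variable {ι : Type u} {K : Type v} {L : Type w} [Fintype ι] [Field K] [CharZero K]
  [IsAlgClosed K] [LieRing L] [LieAlgebra K L] [FiniteDimensional K L] [LieAlgebra.IsSimple K L]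
  {H : LieSubalgebra K L} [H.IsCartanSubalgebra] (b : LieAlgebra.Basis ι H)

theorem weight_unique {μ ν : Module.Dual K H} {x : L} (hx : x ∈ rootSpace H μ)
    (hx' : x ∈ rootSpace H ν) (h0 : x ≠ 0) : μ = ν := by
  ext h
  exact smul_left_injective K h0 ((lie_smul hx h).symm.trans (lie_smul hx' h))

theorem weight_of_sup {μ ν π : Module.Dual K H} {x : L} (hx : x ∈ rootSpace H π) (h0 : x ≠ 0)
    (hx' : x ∈ (rootSpace H μ : Submodule K L) ⊔ (rootSpace H ν : Submodule K L)) :
    π = μ ∨ π = ν := by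
  obtain ⟨a, ha, c, hc, rfl⟩ := Submodule.mem_sup.mp hx'
  by_contra hcon
  push Not at hcon
  obtain ⟨h, hh⟩ : ∃ h, π h ≠ μ h := by
    by_contra h'
    push Not at h'
    exact hcon.1 (LinearMap.ext h')
  have e1 : ⁅(h : L), a⁆ + ⁅(h : L), c⁆ = π h • (a + c) := by
    rw [← lie_add]; exact lie_smul hx h
  rw [lie_smul ha, lie_smul hc, smul_add] at e1
  have e2 : (π h - μ h) • a = (ν h - π h) • c := by
    rw [sub_smul, sub_smul]
    linear_combination (norm := abel) (-1 : ℤ) • e1
  have hac : a ∈ rootSpace H ν := by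
    have h' : (π h - μ h) • a ∈ (rootSpace H ν : Submodule K L) := by
      rw [e2]; exact Submodule.smul_mem _ _ hc
    exact (Submodule.smul_mem_iff _ (sub_ne_zero.mpr hh)).mp h'
  exact hcon.2 (weight_unique hx ((rootSpace H (ν : H → K)).add_mem hac hc) h0)

theorem exists_ne_zero {χ : Module.Dual K H} (h : Wt H χ) : ∃ v ∈ rootSpace H χ, v ≠ 0 := by
  by_contra h'
  push Not at h'
  exact h ((LieSubmodule.eq_bot_iff _).mpr h')

theorem weight_toLinear (χ : Weight K H L) : Wt H (Weight.toLinear K H L χ) := χ.genWeightSpace_ne_bot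

theorem finrank_eq_one {χ : Module.Dual K H} (h : Wt H χ) (h0 : χ ≠ 0) :
    Module.finrank K (rootSpace H χ : Submodule K L) = 1 :=
  finrank_rootSpace_eq_one (mkW h) fun hz => h0 (DFunLike.coe_injective hz)

theorem eq_span {χ : Module.Dual K H} (h0 : χ ≠ 0) {v : L} (hv : v ∈ rootSpace H χ) (hv0 : v ≠ 0) :
    (rootSpace H χ : Submodule K L) = K ∙ v := by
  have hw : Wt H χ := fun h => hv0 (by rw [h] at hv; simpa using hv)
  refine (Submodule.eq_of_le_of_finrank_le
    ((Submodule.span_singleton_le_iff_mem _ _).mpr hv) ?_).symm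
  rw [finrank_eq_one hw h0, finrank_span_singleton hv0]

theorem finrank_sup_eq_two {μ ν : Module.Dual K H} (hμ : Wt H μ) (hν : Wt H ν) (hμ0 : μ ≠ 0)
    (hν0 : ν ≠ 0) (hne : μ ≠ ν) :
    Module.finrank K ↥((rootSpace H μ : Submodule K L) ⊔ (rootSpace H ν : Submodule K L)) = 2 := by
  have hd : (rootSpace H μ : Submodule K L) ⊓ (rootSpace H ν : Submodule K L) = ⊥ := by
    rw [Submodule.eq_bot_iff]
    rintro x ⟨h1, h2⟩
    by_contra h0
    exact hne (weight_unique h1 h2 h0)
  have := Submodule.finrank_sup_add_finrank_inf_eq (rootSpace H μ : Submodule K L)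
    (rootSpace H ν : Submodule K L)
  rw [hd, finrank_bot, finrank_eq_one hμ hμ0, finrank_eq_one hν hν0] at this
  simpa using this

/-- Stability under the Borel subalgebra. -/
def BorelStable (W : Submodule K L) : Prop :=
  ∀ x ∈ H.toSubmodule ⊔ (b.borelUpper : Submodule K L), ∀ w ∈ W, ⁅x, w⁆ ∈ W

theorem e_mem_borel (i : ι) : b.e i ∈ H.toSubmodule ⊔ (b.borelUpper : Submodule K L) :=
  Submodule.mem_sup_right (LieSubalgebra.subset_lieSpan (Set.mem_range_self i))

theorem h_mem_borel (h : H) : (h : L) ∈ H.toSubmodule ⊔ (b.borelUpper : Submodule K L) :=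
  Submodule.mem_sup_left h.2

theorem borelStable_of {W : Submodule K L} (hH : ∀ h : H, ∀ w ∈ W, ⁅(h : L), w⁆ ∈ W)
    (he : ∀ i, ∀ w ∈ W, ⁅b.e i, w⁆ ∈ W) : BorelStable b W := by
  intro x hx
  let S : LieSubalgebra K L :=
    { carrier := {x | ∀ m ∈ W, ⁅x, m⁆ ∈ W}
      add_mem' := fun {x y} hx hy m hm => by rw [add_lie]; exact W.add_mem (hx m hm) (hy m hm)
      zero_mem' := fun m _ => by simp
      smul_mem' := fun c x hx m hm => by rw [smul_lie]; exact W.smul_mem c (hx m hm)
      lie_mem' := fun {x y} hx hy m hm => by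
        rw [lie_lie]; exact W.sub_mem (hx _ (hy m hm)) (hy _ (hx m hm)) }
  have h1 : LieSubalgebra.lieSpan K L (Set.range b.e) ≤ S := by
    rw [LieSubalgebra.lieSpan_le]
    rintro _ ⟨i, rfl⟩
    exact he i
  obtain ⟨y, hy, z, hz, rfl⟩ := Submodule.mem_sup.mp hx
  intro w hw
  rw [add_lie]
  exact W.add_mem (hH ⟨y, hy⟩ w hw) (h1 hz w hw)

variable {ρ : Module.Dual K H}

theorem exists_extremal (hρ : rootSpace H ρ ≠ ⊥)
    (htop : ∀ i, rootSpace H (ρ + b.baseSupp i) = ⊥)
    {W X : Submodule K L} (hW : BorelStable b W) (hWX : ¬ W ≤ X) :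
    ∃ (χ : Module.Dual K H) (v : L), v ∈ W ∧ v ∈ rootSpace H χ ∧ v ∉ X ∧
      ∀ i, ⁅b.e i, v⁆ ∈ X := by
  classical
  let Wl : LieSubmodule K H L := { W with lie_mem := fun {x m} hm => hW x (h_mem_borel b x) m hm }
  have hex : ∃ (N : ℕ) (n : ι → ℕ), ∑ i, n i = N ∧
      ∃ v, v ∈ W ∧ v ∈ rootSpace H ((ρ - cmb b n : Module.Dual K H)) ∧ v ∉ X := by
    by_contra hcon
    push Not at hcon
    apply hWX
    have heq := LieModule.eq_iSup_inf_genWeightSpace (K := K) (L := H) (M := L) Wl
    have hle : (Wl : Submodule K L) ≤ X := by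
      rw [heq, LieSubmodule.iSup_toSubmodule]
      refine iSup_le fun χ => ?_
      intro v hv
      obtain ⟨n, hn⟩ := exists_cmb b hρ htop (weight_toLinear χ)
      refine hcon _ n rfl v hv.1 ?_
      rw [← hn]
      exact hv.2
    exact hle
  obtain ⟨n, hn, v, hvW, hvn, hvX⟩ := Nat.find_spec hex
  refine ⟨ρ - cmb b n, v, hvW, hvn, hvX, fun i => ?_⟩
  by_contra hev
  have hmem := lie_mem_add (e_mem b i) hvn
  have hw : Wt H (b.baseSupp i + (ρ - cmb b n)) := fun h =>
    hev (by rw [eq_zero_of_not_wt (fun h' => h' h) hmem]; exact X.zero_mem)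
  obtain ⟨m, hm⟩ := exists_cmb b hρ htop hw
  have h1 : cmb b n = cmb b (m + Pi.single i 1) := by
    rw [cmb_add, cmb_single]
    linear_combination (norm := abel) (-1 : ℤ) • hm
  have h2 := cmb_injective b h1
  have h3 : ∑ k, m k < Nat.find hex := by
    rw [← hn, h2]
    simp [Finset.sum_add_distrib]
  refine Nat.find_min hex h3 ⟨m, rfl, ⁅b.e i, v⁆, hW _ (e_mem_borel b i) v hvW, ?_, hev⟩
  rw [← hm]
  exact hmem

variable (hρ : rootSpace H ρ ≠ ⊥) (htop : ∀ i, rootSpace H (ρ + b.baseSupp i) = ⊥)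
  {j : ι} (hN : ∀ i, ρ (b.h' i) ≠ 0 ↔ i = j) (hj : ρ (b.h' j) = 1)

include hj in
theorem rho_ne_zero : ρ ≠ 0 := fun h => by simp [h] at hj

include hj in
theorem rho_sub_ne_zero : ρ - b.baseSupp j ≠ 0 := fun h => by
  have : IsAddTorsionFree L := .of_isTorsionFree K L
  rw [sub_eq_zero.mp h, Basis.baseSupp_apply_h', Basis.A_diag_eq_two] at hj
  norm_num at hj

include hρ htop in
theorem chain_rho (i : ι) (m : ℕ) (hm : ρ (b.h' i) = m) (k : ℕ) :
    Wt H (ρ - k • b.baseSupp i) ↔ k ≤ m :=
  chain_facts b i hρ (fun h => h (htop i)) m hm k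

include hρ htop hN in
theorem not_wt_sub (i : ι) (hi : i ≠ j) : ¬ Wt H (ρ - b.baseSupp i) := by
  have h0 : ρ (b.h' i) = ((0 : ℕ) : K) := by
    rw [Nat.cast_zero]
    by_contra h
    exact hi ((hN i).mp h)
  simpa using chain_rho b hρ htop i 0 h0 1

include hρ htop hj in
theorem wt_sub : Wt H (ρ - b.baseSupp j) := by
  simpa using (chain_rho b hρ htop j 1 (by simpa using hj) 1)

include hρ htop hj in
theorem not_wt_sub_sub : ¬ Wt H (ρ - b.baseSupp j - b.baseSupp j) := by
  have := (chain_rho b hρ htop j 1 (by simpa using hj) 2)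
  rw [two_nsmul, ← sub_sub] at this
  simpa using this

include hρ htop in
theorem not_wt_add_one (i k : ι) (hik : k ≠ i) :
    ¬ Wt H (ρ - b.baseSupp i + b.baseSupp k) := by
  classical
  have := not_wt_add b hρ htop (Pi.single i 1) k (Pi.single_eq_of_ne hik 1)
  rwa [cmb_single] at this

include hρ htop in
theorem not_wt_add_two (i i' k : ι) (hik : k ≠ i) (hik' : k ≠ i') :
    ¬ Wt H (ρ - b.baseSupp i - b.baseSupp i' + b.baseSupp k) := by
  classical
  have := not_wt_add b hρ htop (Pi.single i 1 + Pi.single i' 1) k (by simp [hik, hik'])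
  rwa [cmb_add, cmb_single, cmb_single, ← sub_sub] at this

include hρ htop hN hj in
theorem line_le {W : Submodule K L} (hW : BorelStable b W) (h2 : 2 ≤ Module.finrank K W) :
    (rootSpace H ρ : Submodule K L) ⊔ (rootSpace H ((ρ - b.baseSupp j : Module.Dual K H)) : Submodule K L) ≤ W := by
  have hρ0 := rho_ne_zero b hj
  have hne : ¬ W ≤ ⊥ := fun h => by
    rw [le_bot_iff] at h; rw [h, finrank_bot] at h2; omega
  obtain ⟨χ, v, hvW, hvχ, hvX, hkill⟩ := exists_extremal b hρ htop hW hne
  have hv0 : v ≠ 0 := fun h => hvX (by simp [h])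
  obtain rfl := eq_of_killed b hρ htop hvχ hv0 fun i => by simpa using hkill i
  have hle : (rootSpace H χ : Submodule K L) ≤ W := by
    rw [eq_span hρ0 hvχ hv0]
    exact (Submodule.span_singleton_le_iff_mem _ _).mpr hvW
  have hne' : ¬ W ≤ (rootSpace H χ : Submodule K L) := fun h => by
    have := Submodule.finrank_mono h
    rw [finrank_eq_one hρ hρ0] at this
    omega
  obtain ⟨μ, w, hwW, hwμ, hwX, hw⟩ := exists_extremal b hρ htop hW hne'
  have hw0 : w ≠ 0 := fun h => hwX (by simp [h])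
  obtain ⟨i, hi⟩ : ∃ i, ⁅b.e i, w⁆ ≠ 0 := by
    by_contra h
    push Not at h
    exact hwX (eq_of_killed b hρ htop hwμ hw0 h ▸ hwμ)
  have h1 := weight_unique (lie_mem_add (e_mem b i) hwμ) (hw i) hi
  obtain rfl : μ = χ - b.baseSupp i := eq_sub_of_add_eq' h1
  obtain rfl : i = j := by
    by_contra hij
    exact hw0 (eq_zero_of_not_wt (not_wt_sub b hρ htop hN i hij) hwμ)
  refine sup_le hle ?_
  rw [eq_span (rho_sub_ne_zero b hj) hwμ hw0]
  exact (Submodule.span_singleton_le_iff_mem _ _).mpr hwW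

include hρ htop hj in
theorem finrank_line : Module.finrank K ↥((rootSpace H ρ : Submodule K L) ⊔
    (rootSpace H ((ρ - b.baseSupp j : Module.Dual K H)) : Submodule K L)) = 2 := by
  refine finrank_sup_eq_two hρ (wt_sub b hρ htop hj) (rho_ne_zero b hj) (rho_sub_ne_zero b hj) ?_
  intro h
  exact base_ne_zero b j (by simpa using h.symm)

include hρ htop hj in
theorem line_stable : BorelStable b ((rootSpace H ρ : Submodule K L) ⊔
    (rootSpace H ((ρ - b.baseSupp j : Module.Dual K H)) : Submodule K L)) := by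
  refine borelStable_of b (fun h w hw => ?_) (fun i w hw => ?_)
  · obtain ⟨a, ha, c, hc, rfl⟩ := Submodule.mem_sup.mp hw
    rw [lie_add, lie_smul ha, lie_smul hc]
    exact Submodule.add_mem_sup (Submodule.smul_mem _ _ ha) (Submodule.smul_mem _ _ hc)
  · obtain ⟨a, ha, c, hc, rfl⟩ := Submodule.mem_sup.mp hw
    have ha' : ⁅b.e i, a⁆ = 0 :=
      eq_zero_of_not_wt (χ := b.baseSupp i + ρ) (fun h => h (by rw [add_comm]; exact htop i))
        (lie_mem_add (e_mem b i) ha)
    have hc' := lie_mem_add (e_mem b i) hc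
    rw [lie_add, ha', zero_add]
    by_cases hij : i = j
    · subst hij
      rw [add_sub_cancel] at hc'
      exact Submodule.mem_sup_left hc'
    · rw [eq_zero_of_not_wt (by rw [add_comm]; exact not_wt_add_one b hρ htop j i hij) hc']
      exact Submodule.zero_mem _

include hρ htop hN hj in
theorem plane_shape {W : Submodule K L} (hW : BorelStable b W) (h3 : Module.finrank K W = 3) :
    ∃ i, i ≠ j ∧ Wt H (ρ - b.baseSupp j - b.baseSupp i) ∧ ρ - b.baseSupp j - b.baseSupp i ≠ 0 ∧
      b.A i j ≠ 0 ∧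
      W = (rootSpace H ρ : Submodule K L) ⊔ (rootSpace H ((ρ - b.baseSupp j : Module.Dual K H)) : Submodule K L) ⊔
        (rootSpace H ((ρ - b.baseSupp j - b.baseSupp i : Module.Dual K H)) : Submodule K L) := by
  have hle := line_le b hρ htop hN hj hW (by omega)
  have hX := finrank_line b hρ htop hj
  have hne : ¬ W ≤ (rootSpace H ρ : Submodule K L) ⊔
      (rootSpace H ((ρ - b.baseSupp j : Module.Dual K H)) : Submodule K L) := fun h => by
    have := Submodule.finrank_mono h
    omega
  obtain ⟨χ, v, hvW, hvχ, hvX, hkill⟩ := exists_extremal b hρ htop hW hne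
  have hv0 : v ≠ 0 := fun h => hvX (by simp [h])
  obtain ⟨i, hi⟩ : ∃ i, ⁅b.e i, v⁆ ≠ 0 := by
    by_contra h
    push Not at h
    exact hvX (Submodule.mem_sup_left (eq_of_killed b hρ htop hvχ hv0 h ▸ hvχ))
  have hwt : Wt H χ := fun h => hv0 (by rw [h] at hvχ; simpa using hvχ)
  rcases weight_of_sup (lie_mem_add (e_mem b i) hvχ) hi (hkill i) with h1 | h1
  · obtain rfl : χ = ρ - b.baseSupp i := eq_sub_of_add_eq' h1
    by_cases hij : i = j
    · subst hij
      exact absurd (Submodule.mem_sup_right hvχ) hvX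
    · exact absurd hwt (not_wt_sub b hρ htop hN i hij)
  · obtain rfl : χ = ρ - b.baseSupp j - b.baseSupp i := eq_sub_of_add_eq' h1
    have hij : i ≠ j := by
      rintro rfl
      exact not_wt_sub_sub b hρ htop hj hwt
    have h0 : ρ - b.baseSupp j - b.baseSupp i ≠ 0 := fun h => by
      refine not_wt_sub b hρ htop hN i hij ?_
      rw [show ρ - b.baseSupp i = b.baseSupp j by linear_combination (norm := abel) (1 : ℤ) • h]
      exact wt_base b j
    refine ⟨i, hij, hwt, h0, ?_, ?_⟩
    · intro hA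
      have e1 : (mkW (wt_base b i)) (coroot (mkW (wt_base b j))) = 0 := by
        rw [coroot_mkW]
        show b.baseSupp i (b.h' j) = 0
        simp [hA]
      have hnz : ∀ k, (mkW (wt_base b k)).IsNonZero := fun k hz =>
        base_ne_zero b k (DFunLike.coe_injective hz)
      have e2 := pairing_symm (hnz i) (hnz j) e1
      rw [coroot_mkW] at e2
      have hm : (ρ - b.baseSupp j) (b.h' i) = ((0 : ℕ) : K) := by
        have hr : ρ (b.h' i) = 0 := by
          by_contra h
          exact hij ((hN i).mp h)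
        rw [LinearMap.sub_apply, hr, show b.baseSupp j (b.h' i) = 0 from e2]
        simp
      have := (chain_facts b i (wt_sub b hρ htop hj)
        (not_wt_add_one b hρ htop j i hij) 0 hm 1).mp (by rwa [one_smul])
      omega
    · have hle' : (rootSpace H ρ : Submodule K L) ⊔ (rootSpace H ((ρ - b.baseSupp j : Module.Dual K H)) : Submodule K L) ⊔
          (rootSpace H ((ρ - b.baseSupp j - b.baseSupp i : Module.Dual K H)) : Submodule K L) ≤ W := by
        refine sup_le hle ?_
        rw [eq_span h0 hvχ hv0]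
        exact (Submodule.span_singleton_le_iff_mem _ _).mpr hvW
      refine (Submodule.eq_of_le_of_finrank_le hle' ?_).symm
      have hlt : (rootSpace H ρ : Submodule K L) ⊔ (rootSpace H ((ρ - b.baseSupp j : Module.Dual K H)) : Submodule K L) <
          (rootSpace H ρ : Submodule K L) ⊔ (rootSpace H ((ρ - b.baseSupp j : Module.Dual K H)) : Submodule K L) ⊔
          (rootSpace H ((ρ - b.baseSupp j - b.baseSupp i : Module.Dual K H)) : Submodule K L) :=
        lt_of_le_of_ne le_sup_left fun h => hvX (h ▸ Submodule.mem_sup_right hvχ)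
      have := Submodule.finrank_lt_finrank_of_lt hlt
      omega

end Groth.Agent.Lib.AdjVar.Stable
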